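import Mathlib.LinearAlgebra.TensorPower.Symmetric
import Mathlib.LinearAlgebra.SymmetricAlgebra.Basic
import Mathlib.LinearAlgebra.PiTensorProduct.Basic
import Mathlib.RingTheory.MvPolynomial.Ideal
import Mathlib.RingTheory.Smooth.Basic
import Mathlib.Algebra.Module.Projective

/-!
# Symmetric powers and the graded pieces of the symmetric algebra
-/

universe u

open TensorProduct

noncomputable section

namespace Groth.Agent.SymGr.Basic

section Lift

variable {R ι : Type u} [CommRing R] {M N : Type u} [AddCommGroup M] [Module R M] [AddCommGroup N]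
  [Module R N]

/-- Universal property of the symmetric power. -/
def symLift (f : MultilinearMap R (fun _ : ι => M) N)
    (hf : ∀ (e : Equiv.Perm ι) (x : ι → M), f (fun i => x (e i)) = f x) :
    SymmetricPower R ι M →ₗ[R] N :=
  let g : AddCon.Quotient (addConGen (SymmetricPower.Rel R ι M)) →+ N :=
    AddCon.lift _ (PiTensorProduct.lift f).toAddMonoidHom (AddCon.addConGen_le.mpr (fun a b h => by
      cases h with
      | perm e x =>
        rw [AddCon.ker_apply]
        rw [LinearMap.toAddMonoidHom_coe, PiTensorProduct.lift.tprod, PiTensorProduct.lift.tprod, hf]))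
  { toFun := g
    map_add' := g.map_add
    map_smul' := fun r x => AddCon.induction_on x fun a => (PiTensorProduct.lift f).map_smul r a }

@[simp]
lemma symLift_tprod (f : MultilinearMap R (fun _ : ι => M) N)
    (hf : ∀ (e : Equiv.Perm ι) (x : ι → M), f (fun i => x (e i)) = f x) (x : ι → M) :
    symLift f hf (SymmetricPower.tprod R x) = f x :=
  PiTensorProduct.lift.tprod x

lemma linearMap_ext {f g : SymmetricPower R ι M →ₗ[R] N}
    (h : ∀ x : ι → M, f (SymmetricPower.tprod R x) = g (SymmetricPower.tprod R x)) : f = g :=
  LinearMap.ext_on_range (SymmetricPower.span_tprod_eq_top R ι M) h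

end Lift

section Algebra

variable (R : Type u) {S : Type u} [CommRing R] [CommRing S] [Algebra R S] (V : Type u)
  [AddCommGroup V] [Module S V] [Module R V] [IsScalarTower R S V]

variable (S) in
/-- The augmentation ideal of the symmetric algebra. -/
def aug : Ideal (SymmetricAlgebra S V) :=
  RingHom.ker (SymmetricAlgebra.algebraMapInv (R := S) (M := V))

lemma ι_mem_aug (v : V) : SymmetricAlgebra.ι S V v ∈ aug S V :=
  SymmetricAlgebra.algebraMapInv_ι v

lemma sub_algebraMapInv_mem_span (t : SymmetricAlgebra S V) :
    t - algebraMap S (SymmetricAlgebra S V) (SymmetricAlgebra.algebraMapInv t) ∈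
      Ideal.span (Set.range (SymmetricAlgebra.ι S V)) := by
  induction t using SymmetricAlgebra.induction with
  | algebraMap r => simp [SymmetricAlgebra.algebraMap_leftInverse V r]
  | ι x =>
    rw [SymmetricAlgebra.algebraMapInv_ι, map_zero, sub_zero]
    exact Ideal.subset_span ⟨x, rfl⟩
  | mul a b ha hb =>
    rw [map_mul, map_mul]
    have := add_mem (Ideal.mul_mem_right b _ ha)
      (Ideal.mul_mem_left _ (algebraMap S (SymmetricAlgebra S V) (SymmetricAlgebra.algebraMapInv a)) hb)
    convert this using 1
    ring
  | add a b ha hb =>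
    rw [map_add, map_add, add_sub_add_comm]
    exact add_mem ha hb

lemma aug_eq_span : aug S V = Ideal.span (Set.range (SymmetricAlgebra.ι S V)) := by
  refine le_antisymm (fun t ht => ?_) (Ideal.span_le.mpr ?_)
  · have := sub_algebraMapInv_mem_span V t
    rwa [show SymmetricAlgebra.algebraMapInv t = 0 from ht, map_zero, sub_zero] at this
  · rintro _ ⟨v, rfl⟩; exact ι_mem_aug V v

variable (S) in
/-- Products of generators. -/
def mulTuple (ι : Type u) [Fintype ι] : MultilinearMap R (fun _ : ι => V) (SymmetricAlgebra S V) :=
  (MultilinearMap.mkPiAlgebra R ι (SymmetricAlgebra S V)).compLinearMap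
    fun _ => (SymmetricAlgebra.ι S V).restrictScalars R

variable (S) in
/-- The natural map from the symmetric power to the symmetric algebra. -/
def symIota (ι : Type u) [Fintype ι] : SymmetricPower R ι V →ₗ[R] SymmetricAlgebra S V :=
  symLift (mulTuple R S V ι) fun e x => Equiv.prod_comp e fun i => SymmetricAlgebra.ι S V (x i)

@[simp]
lemma symIota_tprod (ι : Type u) [Fintype ι] (x : ι → V) :
    symIota R S V ι (SymmetricPower.tprod R x) = ∏ i, SymmetricAlgebra.ι S V (x i) := by
  rw [symIota, symLift_tprod]
  simp [mulTuple]

lemma symIota_mem (ι : Type u) [Fintype ι] (s : SymmetricPower R ι V) :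
    symIota R S V ι s ∈ aug S V ^ Fintype.card ι := by
  have : s ∈ Submodule.span R (Set.range (SymmetricPower.tprod R (ι := ι) (M := V))) := by
    rw [SymmetricPower.span_tprod_eq_top]; trivial
  induction this using Submodule.span_induction with
  | mem y hy =>
    obtain ⟨x, rfl⟩ := hy
    rw [symIota_tprod, Fintype.card, ← Finset.prod_const]
    exact Ideal.prod_mem_prod fun i _ => ι_mem_aug V _
  | zero => rw [map_zero]; exact zero_mem _
  | add a b _ _ ha hb => rw [map_add]; exact add_mem ha hb
  | smul r a _ ha =>
    rw [map_smul, ← algebraMap_smul (SymmetricAlgebra S V) r]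
    exact Submodule.smul_mem _ _ ha

/-- The image of the symmetric power spans `aug ^ n` modulo `aug ^ (n + 1)`. -/
lemma exists_symIota_sub_mem (h : Function.Surjective (algebraMap R S)) (ι : Type u) [Fintype ι]
    [Nonempty ι] {x : SymmetricAlgebra S V} (hx : x ∈ aug S V ^ Fintype.card ι) :
    ∃ s, x - symIota R S V ι s ∈ aug S V ^ (Fintype.card ι + 1) := by
  have hpow : aug S V ^ Fintype.card ι =
      Ideal.span (Set.range fun v : ι → V => ∏ i, SymmetricAlgebra.ι S V (v i)) := by
    rw [aug_eq_span, Fintype.card, ← Finset.prod_const, Ideal.prod_span]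
    congr 1
    ext z
    constructor
    · intro hz
      obtain ⟨g, hg, rfl⟩ := (Set.mem_finsetProd _ _ _).mp hz
      choose v hv using fun i => hg (i := i) (Finset.mem_univ i)
      exact ⟨v, Finset.prod_congr rfl fun i _ => hv i⟩
    · rintro ⟨v, rfl⟩
      exact Set.finsetProd_mem_finsetProd _ _ _ fun i _ => ⟨v i, rfl⟩
  rw [hpow] at hx
  induction hx using Submodule.span_induction with
  | mem y hy =>
    obtain ⟨v, rfl⟩ := hy
    exact ⟨SymmetricPower.tprod R v, by rw [symIota_tprod, sub_self]; exact zero_mem _⟩
  | zero => exact ⟨0, by simp⟩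
  | add a b _ _ ha hb =>
    obtain ⟨s, hs⟩ := ha
    obtain ⟨t, ht⟩ := hb
    exact ⟨s + t, by rw [map_add, add_sub_add_comm]; exact add_mem hs ht⟩
  | smul c a hamem ha =>
    obtain ⟨s, hs⟩ := ha
    obtain ⟨r, hr⟩ := h (SymmetricAlgebra.algebraMapInv c)
    refine ⟨r • s, ?_⟩
    rw [map_smul, ← algebraMap_smul S r, hr, smul_eq_mul, Algebra.smul_def]
    have h1 : (c - algebraMap S _ (SymmetricAlgebra.algebraMapInv c)) * a ∈
        aug S V ^ (Fintype.card ι + 1) := by
      rw [pow_succ']
      refine Ideal.mul_mem_mul ?_ (hpow ▸ hamem)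
      rw [aug_eq_span]
      exact sub_algebraMapInv_mem_span V c
    have h2 := Ideal.mul_mem_left _ (algebraMap S _ (SymmetricAlgebra.algebraMapInv c)) hs
    convert add_mem h1 h2 using 1
    ring

end Algebra

section Projective

variable (R : Type u) {S : Type u} [CommRing R] [CommRing S] [Algebra R S]

/-- Exponent vector of a tuple. -/
def expo {ι σ : Type u} [Fintype ι] (s : ι → σ) : σ →₀ ℕ := ∑ i, Finsupp.single (s i) 1

lemma exists_perm_of_expo_eq {ι σ : Type u} [Fintype ι] {s s' : ι → σ} (h : expo s = expo s') :
    ∃ e : Equiv.Perm ι, s' ∘ e = s := by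
  classical
  have hc : ∀ a : σ, Fintype.card {i // s i = a} = Fintype.card {i // s' i = a} := fun a => by
    have := DFunLike.congr_fun h a
    simp only [expo, Finsupp.finsetSum_apply, Finsupp.single_apply, Finset.sum_boole,
      Nat.cast_id] at this
    rw [Fintype.card_subtype, Fintype.card_subtype]
    exact this
  exact ⟨Equiv.ofFiberEquiv (f := s) (g := s') fun a => Fintype.equivOfCardEq (hc a),
    funext fun i => Equiv.ofFiberEquiv_map _ i⟩

variable (S) in
/-- The contribution of one monomial to the degree-`n` component. -/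
def degTerm (σ ι : Type u) [Fintype ι] [hne : Nonempty ι] (d : σ →₀ ℕ) :
    S →+ SymmetricPower R ι (σ →₀ S) :=
  open Classical in
  if h : ∃ s : ι → σ, expo s = d then
    AddMonoidHom.mk' (fun c => SymmetricPower.tprod R
      (Function.update (fun i => Finsupp.single (h.choose i) (1 : S))
        hne.some (Finsupp.single (h.choose hne.some) c)))
      (fun a b => by classical rw [Finsupp.single_add]; exact MultilinearMap.map_update_add _ _ _ _ _)
  else 0

variable (S) in
/-- Degree-`n` component of a polynomial, as an element of the symmetric power of the free module. -/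
def degProj (σ ι : Type u) [Fintype ι] [Nonempty ι] :
    MvPolynomial σ S →+ SymmetricPower R ι (σ →₀ S) :=
  (Finsupp.liftAddHom (degTerm R S σ ι)).comp
    (AddMonoidHom.mk' (fun p : MvPolynomial σ S => AddMonoidAlgebra.coeff p) fun _ _ => rfl)

lemma degProj_monomial_eq (σ ι : Type u) [Fintype ι] [Nonempty ι] (d : σ →₀ ℕ) (c : S) :
    degProj R S σ ι (MvPolynomial.monomial d c) = degTerm R S σ ι d c := by
  show Finsupp.liftAddHom (degTerm R S σ ι) (Finsupp.single d c) = _
  rw [Finsupp.liftAddHom_apply_single]

lemma degProj_monomial (σ ι : Type u) [Fintype ι] [hne : Nonempty ι] (h : Function.Surjective (algebraMap R S))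
    (s : ι → σ) (r : R) :
    degProj R S σ ι (MvPolynomial.monomial (expo s) (algebraMap R S r)) =
      r • SymmetricPower.tprod R (fun i => Finsupp.single (s i) (1 : S)) := by
  classical
  have hex : ∃ t : ι → σ, expo t = expo s := ⟨s, rfl⟩
  rw [degProj_monomial_eq, degTerm, dif_pos hex]
  show SymmetricPower.tprod R (Function.update (fun i => Finsupp.single (hex.choose i) (1 : S))
    hne.some (Finsupp.single (hex.choose hne.some) (algebraMap R S r))) = _
  set t := hex.choose
  have ht : expo t = expo s := hex.choose_spec
  obtain ⟨e, he⟩ := exists_perm_of_expo_eq ht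
  have h1 : Finsupp.single (t hne.some) (algebraMap R S r) =
      r • Finsupp.single (t hne.some) (1 : S) := by
    rw [Finsupp.smul_single, Algebra.algebraMap_eq_smul_one]
  rw [h1, MultilinearMap.map_update_smul,
    show Function.update (fun i => Finsupp.single (t i) (1 : S)) hne.some
      (Finsupp.single (t hne.some) 1) = fun i => Finsupp.single (t i) (1 : S) from
      Function.update_eq_self _ (fun i => Finsupp.single (t i) (1 : S))]
  congr 1
  rw [← he]
  exact SymmetricPower.tprod_equiv e fun i => Finsupp.single (s i) (1 : S)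

lemma degProj_zero (σ ι : Type u) [Fintype ι] [Nonempty ι] {p : MvPolynomial σ S}
    (hp : p ∈ MvPolynomial.idealOfVars σ S ^ (Fintype.card ι + 1)) : degProj R S σ ι p = 0 := by
  classical
  rw [MvPolynomial.mem_pow_idealOfVars_iff] at hp
  rw [p.as_sum, map_sum]
  refine Finset.sum_eq_zero fun d hd => ?_
  rw [degProj_monomial_eq, degTerm, dif_neg, AddMonoidHom.zero_apply]
  rintro ⟨s, hs⟩
  have h1 := hp d hd
  rw [← hs] at h1
  have h2 : (expo s).degree = Fintype.card ι := by simp [expo]
  omega

lemma mapPow_mem (V : Type u) [AddCommGroup V] [Module S V] (σ : Type u) (n : ℕ)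
    (f : V →ₗ[S] MvPolynomial σ S) (hf : ∀ v, f v ∈ MvPolynomial.idealOfVars σ S)
    {x : SymmetricAlgebra S V} (hx : x ∈ aug S V ^ n) :
    SymmetricAlgebra.lift f x ∈ MvPolynomial.idealOfVars σ S ^ n := by
  have h1 := Ideal.mem_map_of_mem (SymmetricAlgebra.lift f) hx
  rw [Ideal.map_pow] at h1
  refine Ideal.pow_right_mono ?_ n h1
  rw [aug_eq_span, Ideal.map_span, Ideal.span_le]
  rintro _ ⟨_, ⟨v, rfl⟩, rfl⟩
  rw [SymmetricAlgebra.lift_ι_apply]
  exact hf v

variable (V : Type u) [AddCommGroup V] [Module S V] [Module R V] [IsScalarTower R S V]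

/-- For projective `V`, the symmetric power injects into `aug^n / aug^(n+1)`. -/
theorem eq_zero_of_symIota_mem [Module.Projective S V] (h : Function.Surjective (algebraMap R S))
    (ι : Type u) [Fintype ι] [Nonempty ι] {x : SymmetricPower R ι V}
    (hx : symIota R S V ι x ∈ aug S V ^ (Fintype.card ι + 1)) : x = 0 := by
  classical
  obtain ⟨sec, hsec⟩ := Module.projective_def'.mp ‹Module.Projective S V›
  set pr : (V →₀ S) →ₗ[S] V := Finsupp.linearCombination S id with hpr
  have hprsec : ∀ v, pr (sec v) = v := fun v => DFunLike.congr_fun hsec v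
  let L : (V →₀ S) →ₗ[S] MvPolynomial V S :=
    Finsupp.linearCombination S (MvPolynomial.X : V → MvPolynomial V S)
  have hLX : ∀ w, L w ∈ MvPolynomial.idealOfVars V S := fun w => by
    rw [show L w = _ from Finsupp.linearCombination_apply S w]
    refine sum_mem fun i _ => Submodule.smul_of_tower_mem _ _ (Ideal.subset_span ⟨i, rfl⟩)
  let φ := SymmetricAlgebra.lift (L ∘ₗ sec)
  let symPr : SymmetricPower R ι (V →₀ S) →ₗ[R] SymmetricPower R ι V :=
    symLift ((SymmetricPower.tprod R).compLinearMap fun _ => pr.restrictScalars R) fun e y => by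
      simp only [MultilinearMap.compLinearMap_apply]
      exact SymmetricPower.tprod_equiv e fun i => pr (y i)
  let dp : MvPolynomial V S →+ SymmetricPower R ι V :=
    symPr.toAddMonoidHom.comp (degProj R S V ι)
  have key : ∀ y, dp (φ (symIota R S V ι y)) = y := by
    intro y
    have hy : y ∈ Submodule.span R (Set.range (SymmetricPower.tprod R (ι := ι) (M := V))) := by
      rw [SymmetricPower.span_tprod_eq_top]; trivial
    induction hy using Submodule.span_induction with
    | zero => simp
    | add a b _ _ ha hb => simp only [map_add, ha, hb]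
    | smul r a _ ha =>
      rw [map_smul, ← algebraMap_smul S r (symIota R S V ι a), AlgHom.map_smul_of_tower, algebraMap_smul]
      have hdp : ∀ p : MvPolynomial V S, dp (r • p) = r • dp p := by
        intro p
        induction p using MvPolynomial.induction_on' with
        | add p q hp hq => rw [smul_add, map_add, map_add, smul_add, hp, hq]
        | monomial d c =>
          show symPr (degProj R S V ι _) = r • symPr (degProj R S V ι _)
          rw [← LinearMap.map_smul symPr]
          refine congrArg symPr ?_
          by_cases hd : ∃ s : ι → V, expo s = d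
          · obtain ⟨s, rfl⟩ := hd
            obtain ⟨c, rfl⟩ := h c
            rw [MvPolynomial.smul_monomial, Algebra.smul_def, ← map_mul, degProj_monomial R V ι h,
              degProj_monomial R V ι h, smul_smul]
          · have h0 : ∀ c : S, degProj R S V ι (MvPolynomial.monomial d c) = 0 := fun c => by
              rw [degProj_monomial_eq, degTerm, dif_neg hd]
              rfl
            rw [MvPolynomial.smul_monomial, h0, h0, smul_zero]
      rw [hdp, ha]
    | mem z hz =>
      obtain ⟨v, rfl⟩ := hz
      rw [symIota_tprod, map_prod]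
      simp only [φ, SymmetricAlgebra.lift_ι_apply, LinearMap.comp_apply]
      -- expand in monomials
      have hexp : ∀ w : V →₀ S, L w = ∑ a ∈ w.support, w a • MvPolynomial.X a := fun w =>
        Finsupp.linearCombination_apply S w
      simp only [hexp]
      rw [Finset.prod_univ_sum, map_sum]
      have hterm : ∀ s : ι → V, dp (∏ i, sec (v i) (s i) • MvPolynomial.X (s i)) =
          SymmetricPower.tprod R (fun i => sec (v i) (s i) • s i) := by
        intro s
        choose r hr using fun i => h (sec (v i) (s i))
        have hmon : (∏ i, sec (v i) (s i) • (MvPolynomial.X (s i) : MvPolynomial V S)) =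
            MvPolynomial.monomial (expo s) (algebraMap R S (∏ i, r i)) := by
          rw [map_prod]
          simp only [hr, expo, MvPolynomial.monomial_sum_index, MvPolynomial.smul_eq_C_mul,
            Finset.prod_mul_distrib, map_prod]
          rfl
        rw [hmon]
        show symPr (degProj R S V ι _) = _
        rw [degProj_monomial R V ι h, map_smul, symLift_tprod, ← MultilinearMap.map_smul_univ]
        show SymmetricPower.tprod R (fun i => pr (r i • Finsupp.single (s i) (1 : S))) = _
        refine congrArg _ (funext fun i => ?_)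
        rw [LinearMap.map_smul_of_tower]
        rw [← hr, algebraMap_smul]
        simp [pr]
      simp only [hterm]
      refine ((SymmetricPower.tprod R (ι := ι) (M := V)).map_sum_finset
        (fun i a => sec (v i) a • a) (fun i => (sec (v i)).support)).symm.trans ?_
      refine congrArg _ (funext fun i => ?_)
      conv_rhs => rw [← hprsec (v i)]
      rfl
  rw [← key x]
  show symPr (degProj R S V ι (φ _)) = 0
  rw [degProj_zero R V ι (mapPow_mem V V _ (L ∘ₗ sec) (fun w => hLX _) hx), map_zero]

end Projective

/-- Symmetric algebras of projective modules are formally smooth. -/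
theorem formallySmooth_symmetricAlgebra (A : Type u) [CommRing A] (V : Type u) [AddCommGroup V]
    [Module A V] [Module.Projective A V] : Algebra.FormallySmooth A (SymmetricAlgebra A V) := by
  refine Algebra.FormallySmooth.iff_comp_surjective.mpr fun E _ _ I _ f => ?_
  obtain ⟨g, hg⟩ := Module.projective_lifting_property (Ideal.Quotient.mkₐ A I).toLinearMap
    (f.toLinearMap ∘ₗ SymmetricAlgebra.ι A V) Ideal.Quotient.mk_surjective
  refine ⟨SymmetricAlgebra.lift g, SymmetricAlgebra.algHom_ext (LinearMap.ext fun v => ?_)⟩
  show Ideal.Quotient.mk I (SymmetricAlgebra.lift g (SymmetricAlgebra.ι A V v)) = _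
  rw [SymmetricAlgebra.lift_ι_apply]
  exact DFunLike.congr_fun hg v

end Groth.Agent.SymGr.Basic
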