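import Mathlib
import Groth.Prelude.Def_CAlgX
import Groth.Prelude.Def_PP16
import Groth.Agent.SymGr.Basic
import Groth.Agent.AdicFS.SymGr
import Groth.Agent.RegLoc.Basic
import Groth.Agent.RegDVR.Basic

/-!
# Quasi-regular sequences and the bijectivity of `Sym^n(J/J^2) → J^n/J^(n+1)`
-/

set_option autoImplicit false
universe u
open MvPolynomial
open EGA41

noncomputable section

namespace Groth.Agent.SymGr.Quasi

variable {R : Type u} [CommRing R]

section Multiset

lemma exists_sum_single {σ : Type*} {ι : Type*} [Fintype ι] {e : σ →₀ ℕ}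
    (h : e.degree = Fintype.card ι) : ∃ f : ι → σ, ∑ i, Finsupp.single (f i) 1 = e := by
  classical
  set l := (Finsupp.toMultiset e).toList with hl
  have hlen : l.length = Fintype.card ι := by
    rw [hl, Multiset.length_toList, Finsupp.card_toMultiset, ← h]; rfl
  let g : ι ≃ Fin l.length := Fintype.equivFinOfCardEq hlen.symm
  refine ⟨fun i => l[(g i : ℕ)], ?_⟩
  have haux : ∀ m : Multiset σ, (m.map fun x => Finsupp.single x 1).sum = Multiset.toFinsupp m := by
    intro m
    induction m using Multiset.induction_on with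
    | empty => simp
    | cons x m ih =>
      rw [Multiset.map_cons, Multiset.sum_cons, ih, ← Multiset.singleton_add, map_add,
        Multiset.toFinsupp_singleton]
  rw [Equiv.sum_comp g (fun k : Fin l.length => Finsupp.single l[(k : ℕ)] (1 : ℕ)),
    Fin.sum_univ_fun_getElem l (fun x => Finsupp.single x (1 : ℕ)), ← Multiset.sum_coe,
    ← Multiset.map_coe, hl, Multiset.coe_toList, haux, Finsupp.toMultiset_toFinsupp]

lemma exists_perm {σ : Type*} {ι : Type*} [Fintype ι] {f f' : ι → σ}
    (h : ∑ i, Finsupp.single (f i) (1 : ℕ) = ∑ i, Finsupp.single (f' i) 1) :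
    ∃ e : Equiv.Perm ι, f' ∘ e = f := by
  classical
  have hc : ∀ a : σ, Fintype.card {i // f i = a} = Fintype.card {i // f' i = a} := fun a => by
    have := DFunLike.congr_fun h a
    simp only [Finsupp.finsetSum_apply, Finsupp.single_apply, Finset.sum_boole, Nat.cast_id] at this
    rw [Fintype.card_subtype, Fintype.card_subtype]
    exact this
  exact ⟨Equiv.ofFiberEquiv (f := f) (g := f') fun a => Fintype.equivOfCardEq (hc a),
    funext fun i => Equiv.ofFiberEquiv_map _ i⟩

end Multiset

section Phi

variable (J : Ideal R) (ι : Type u) [Fintype ι]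

/-- Representative of a conormal class. -/
def rep (v : J.Cotangent) : J := (J.toCotangent_surjective v).choose

lemma toCotangent_rep (v : J.Cotangent) : J.toCotangent (rep J v) = v :=
  (J.toCotangent_surjective v).choose_spec

variable {J ι} in
lemma zetaJ_congr {x y : ι → J} (h : ∀ i, J.toCotangent (x i) = J.toCotangent (y i)) :
    PP16.zetaJ R J x = PP16.zetaJ R J y := by
  rw [PP16.zetaJ, PP16.zetaJ, Submodule.Quotient.eq, Submodule.mem_comap]
  have := AdicFS.SymGr.prod_sub_prod_mem ι Finset.univ (fun i => (x i : R)) (fun i => (y i : R))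
    (fun i => (x i).2) (fun i => (y i).2) (fun i => J.toCotangent_eq.mp (h i))
  simpa using this

variable {J ι} in
lemma zetaJ_update [DecidableEq ι] (x : ι → J) (i : ι) (a : J) :
    (Function.update x i a i : R) * ∏ j ∈ Finset.univ.erase i, (x j : R) =
      ∏ j, ((Function.update x i a j : J) : R) := by
  rw [← Finset.mul_prod_erase Finset.univ _ (Finset.mem_univ i)]
  congr 1
  exact Finset.prod_congr rfl fun j hj => by rw [Function.update_of_ne (Finset.ne_of_mem_erase hj)]

/-- The multilinear map behind `Sym^n(J/J^2) → J^n/J^(n+1)`. -/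
def multi : MultilinearMap R (fun _ : ι => J.Cotangent) (PP16.grJ R J (Fintype.card ι)) where
  toFun v := PP16.zetaJ R J fun i => rep J (v i)
  map_update_add' {inst} v i a b := by
    classical
    have e : ∀ c, (fun j => rep J (Function.update v i c j)) =
        Function.update (fun j => rep J (v j)) i (rep J c) := fun c =>
      funext fun j => Function.apply_update (fun _ => rep J) v i c j
    simp only [e]
    rw [zetaJ_congr (y := Function.update (fun j => rep J (v j)) i (rep J a + rep J b)) (fun j => by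
      rcases eq_or_ne j i with rfl | hj
      · rw [Function.update_self, Function.update_self, map_add, toCotangent_rep, toCotangent_rep,
          toCotangent_rep]
      · rw [Function.update_of_ne hj, Function.update_of_ne hj])]
    simp only [PP16.zetaJ, ← Submodule.Quotient.mk_add]
    congr 1
    refine Subtype.ext ?_
    simp only [Submodule.coe_add, ← zetaJ_update, Function.update_self, add_mul]
  map_update_smul' {inst} v i c a := by
    classical
    have e : ∀ c, (fun j => rep J (Function.update v i c j)) =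
        Function.update (fun j => rep J (v j)) i (rep J c) := fun c =>
      funext fun j => Function.apply_update (fun _ => rep J) v i c j
    simp only [e]
    rw [zetaJ_congr (y := Function.update (fun j => rep J (v j)) i (c • rep J a)) (fun j => by
      rcases eq_or_ne j i with rfl | hj
      · rw [Function.update_self, Function.update_self, map_smul, toCotangent_rep, toCotangent_rep]
      · rw [Function.update_of_ne hj, Function.update_of_ne hj])]
    simp only [PP16.zetaJ, ← Submodule.Quotient.mk_smul]
    congr 1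
    refine Subtype.ext ?_
    simp only [SetLike.val_smul, ← zetaJ_update, Function.update_self, smul_eq_mul, mul_assoc]

/-- The canonical map `Sym^n(J/J^2) → J^n/J^(n+1)`. -/
def phi : SymmetricPower R ι J.Cotangent →ₗ[R] PP16.grJ R J (Fintype.card ι) :=
  Basic.symLift (multi J ι) fun e v => by
    show PP16.zetaJ R J _ = PP16.zetaJ R J _
    simp only [PP16.zetaJ]
    congr 1
    exact Subtype.ext (Equiv.prod_comp e fun i => ((rep J (v i) : J) : R))

lemma phi_tprod (x : ι → J) :
    phi J ι (SymmetricPower.tprod R fun i => J.toCotangent (x i)) = PP16.zetaJ R J x := by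
  rw [phi, Basic.symLift_tprod]
  exact zetaJ_congr fun i => toCotangent_rep J _

lemma eq_phi {φ : SymmetricPower R ι J.Cotangent →ₗ[R] PP16.grJ R J (Fintype.card ι)}
    (hφ : ∀ x : ι → J, φ (SymmetricPower.tprod R fun i => J.toCotangent (x i)) = PP16.zetaJ R J x) :
    φ = phi J ι := by
  refine Basic.linearMap_ext fun v => ?_
  rw [show v = fun i => J.toCotangent (rep J (v i)) from funext fun i => (toCotangent_rep J _).symm,
    hφ, phi_tprod]

lemma symGrBijective_iff : PP16.SymGrBijective R J ↔
    ∀ (ι : Type u) [Fintype ι] [Nonempty ι], Function.Bijective (phi J ι) := by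
  constructor
  · intro h ι _ _
    obtain ⟨φ, hφ, hb⟩ := h ι
    rwa [← eq_phi J ι hφ]
  · exact fun h ι _ _ => ⟨phi J ι, phi_tprod J ι, h ι⟩

lemma phi_surjective : Function.Surjective (phi J ι) := by
  intro z
  induction z using Submodule.Quotient.induction_on with
  | H z =>
    obtain ⟨z, hz⟩ := z
    have hz' : z ∈ Ideal.span (Set.range fun x : ι → J => ∏ i, (x i : R)) := by
      have : J ^ Fintype.card ι ≤ Ideal.span (Set.range fun x : ι → J => ∏ i, (x i : R)) := by
        conv_lhs => rw [← Ideal.span_eq J, Fintype.card, ← Finset.prod_const, Ideal.prod_span]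
        refine Ideal.span_mono fun w hw => ?_
        obtain ⟨g, hg, rfl⟩ := (Set.mem_finsetProd _ _ _).mp hw
        exact ⟨fun i => ⟨g i, hg (Finset.mem_univ i)⟩, rfl⟩
      exact this hz
    let T : Submodule R R :=
      ((LinearMap.range (phi J ι)).comap (Submodule.mkQ _)).map (J ^ Fintype.card ι).subtype
    have hT : Ideal.span (Set.range fun x : ι → J => ∏ i, (x i : R)) ≤ T := by
      rw [Ideal.span, Submodule.span_le]
      rintro _ ⟨x, rfl⟩
      exact ⟨⟨∏ i, (x i : R), by simpa using PP16.prod_mem_pow J Finset.univ _ (fun i _ => (x i).2)⟩,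
        ⟨_, phi_tprod J ι x⟩, rfl⟩
    obtain ⟨w, ⟨t, ht⟩, hw⟩ := hT hz'
    exact ⟨t, ht.trans (congrArg _ (Subtype.ext hw))⟩

end Phi

section Gen

variable {J : Ideal R} {d : ℕ} {a : Fin d → R}

/-- The generators as elements of the ideal. -/
def gen (hJ : Ideal.span (Set.range a) = J) (j : Fin d) : J :=
  ⟨a j, hJ ▸ Ideal.subset_span (Set.mem_range_self j)⟩

variable (hJ : Ideal.span (Set.range a) = J) (ι : Type u) [Fintype ι] [Nonempty ι]

/-- The symmetric product of classes of generators. -/
def tgen (f : ι → Fin d) : SymmetricPower R ι J.Cotangent :=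
  SymmetricPower.tprod R fun i => J.toCotangent (gen hJ (f i))

omit [Nonempty ι] in
lemma prod_gen (f : ι → Fin d) :
    ∏ i, (gen hJ (f i) : R) = eval a (monomial (∑ i, Finsupp.single (f i) 1) (1 : R)) := by
  rw [monomial_sum_one, map_prod]
  refine Finset.prod_congr rfl fun i _ => ?_
  rw [eval_monomial, Finsupp.prod_single_index (h := fun n e => a n ^ e) (pow_zero _), one_mul, pow_one]
  rfl

lemma span_tgen : Submodule.span R (Set.range (tgen hJ ι)) = ⊤ := by
  classical
  have hs : ∀ v : J.Cotangent, ∃ c : Fin d → R, ∑ j, c j • J.toCotangent (gen hJ j) = v := by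
    intro v
    obtain ⟨⟨x, hx⟩, rfl⟩ := J.toCotangent_surjective v
    have hx' : x ∈ Ideal.span (Set.range a) := hJ ▸ hx
    rw [Ideal.span, Submodule.mem_span_range_iff_exists_fun] at hx'
    obtain ⟨c, hc⟩ := hx'
    refine ⟨c, ?_⟩
    simp only [← map_smul, ← map_sum]
    congr 1
    refine Subtype.ext (Eq.trans ?_ hc)
    simp [gen]
  rw [eq_top_iff, ← SymmetricPower.span_tprod_eq_top, Submodule.span_le]
  rintro _ ⟨v, rfl⟩
  choose c hc using fun i => hs (v i)
  rw [show v = fun i => ∑ j, c i j • J.toCotangent (gen hJ j) from funext fun i => (hc i).symm,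
    MultilinearMap.map_sum]
  refine sum_mem fun f _ => ?_
  rw [MultilinearMap.map_smul_univ]
  exact Submodule.smul_mem _ _ (Submodule.subset_span ⟨f, rfl⟩)

omit [Nonempty ι] in
lemma tgen_eq_of_sum_eq {f f' : ι → Fin d}
    (h : ∑ i, Finsupp.single (f i) (1 : ℕ) = ∑ i, Finsupp.single (f' i) 1) :
    tgen hJ ι f = tgen hJ ι f' := by
  obtain ⟨e, rfl⟩ := exists_perm h
  exact SymmetricPower.tprod_equiv e fun i => J.toCotangent (gen hJ (f' i))

variable {ι} in
lemma smul_eq_zero {r : R} (hr : r ∈ J) (s : SymmetricPower R ι J.Cotangent) : r • s = 0 := by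
  classical
  suffices h : r • LinearMap.id (R := R) (M := SymmetricPower R ι J.Cotangent) = 0 from
    LinearMap.congr_fun h s
  refine Basic.linearMap_ext fun v => ?_
  obtain ⟨i⟩ := ‹Nonempty ι›
  rw [LinearMap.smul_apply, LinearMap.id_apply, LinearMap.zero_apply]
  conv_lhs => rw [← Function.update_eq_self i v, ← MultilinearMap.map_update_smul]
  obtain ⟨x, hx⟩ := J.toCotangent_surjective (v i)
  rw [← hx, ← map_smul, (J.toCotangent_eq_zero _).mpr, MultilinearMap.map_update_zero]
  show r * (x : R) ∈ J ^ 2
  rw [pow_two]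
  exact Ideal.mul_mem_mul hr x.2

lemma emb_phi_tgen (f : ι → Fin d) :
    AdicFS.SymGr.emb ι rfl (phi J ι (tgen hJ ι f)) =
      Ideal.Quotient.mk (J ^ (Fintype.card ι + 1))
        (eval a (monomial (∑ i, Finsupp.single (f i) 1) (1 : R))) := by
  rw [tgen, phi_tprod, AdicFS.SymGr.emb_zetaJ, prod_gen]

omit [Nonempty ι] in
lemma phi_eq_zero_iff {s : SymmetricPower R ι J.Cotangent} :
    phi J ι s = 0 ↔ AdicFS.SymGr.emb ι rfl (phi J ι s) = 0 :=
  (map_eq_zero_iff _ (AdicFS.SymGr.emb_injective ι rfl)).symm

lemma phi_sum {β : Type*} (B : Finset β) (c : β → R) (f : β → ι → Fin d) :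
    phi J ι (∑ b ∈ B, c b • tgen hJ ι (f b)) = 0 ↔
      eval a (∑ b ∈ B, monomial (∑ i, Finsupp.single (f b i) 1) (c b)) ∈ J ^ (Fintype.card ι + 1) := by
  rw [phi_eq_zero_iff, ← Ideal.Quotient.eq_zero_iff_mem, map_sum, map_sum, map_sum, map_sum]
  refine iff_of_eq (congrArg (· = _) (Finset.sum_congr rfl fun b _ => ?_))
  rw [map_smul, map_smul, emb_phi_tgen, eval_monomial, eval_monomial, one_mul, map_mul,
    Algebra.smul_def, Ideal.Quotient.algebraMap_eq]

omit [Nonempty ι] in
lemma isHomogeneous_sum [DecidableEq ι] (c : (ι → Fin d) → R) :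
    (∑ f : ι → Fin d, monomial (∑ i, Finsupp.single (f i) 1) (c f)).IsHomogeneous (Fintype.card ι) := by
  classical
  refine IsHomogeneous.sum _ _ _ fun f _ => isHomogeneous_monomial _ ?_
  simp

include hJ in
/-- Quasi-regularity gives `SymGrBijective`. -/
theorem symGrBijective_of_isQuasiRegular (hq : CAlgX.IsQuasiRegular a) : PP16.SymGrBijective R J := by
  rw [symGrBijective_iff]
  intro ι _ _
  classical
  refine ⟨(injective_iff_map_eq_zero _).mpr fun s hs => ?_, phi_surjective J ι⟩
  have hmem : s ∈ Submodule.span R (Set.range (tgen hJ ι)) := span_tgen hJ ι ▸ Submodule.mem_top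
  obtain ⟨c, rfl⟩ := (Submodule.mem_span_range_iff_exists_fun R).mp hmem
  rw [phi_sum] at hs
  have hco := hq _ _ (isHomogeneous_sum ι c) (by rwa [hJ])
  rw [hJ] at hco
  rw [← Finset.sum_fiberwise_of_maps_to (fun f _ => Finset.mem_image_of_mem
    (fun f : ι → Fin d => ∑ i, Finsupp.single (f i) (1 : ℕ)) (Finset.mem_univ f))]
  refine Finset.sum_eq_zero fun e he => ?_
  obtain ⟨f₀, -, rfl⟩ := Finset.mem_image.mp he
  rw [Finset.sum_congr rfl (fun f hf => by rw [tgen_eq_of_sum_eq hJ ι (Finset.mem_filter.mp hf).2]),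
    ← Finset.sum_smul]
  refine smul_eq_zero ?_ _
  convert hco (∑ i, Finsupp.single (f₀ i) 1) using 1
  rw [coeff_sum, Finset.sum_filter]
  exact Finset.sum_congr rfl fun f _ => by rw [coeff_monomial]

include hJ in
/-- `SymGrBijective` gives quasi-regularity for a free basis of the conormal module. -/
theorem isQuasiRegular_of_symGrBijective (h : PP16.SymGrBijective R J)
    (hind : ∀ r : Fin d → R, ∑ j, r j * a j ∈ J ^ 2 → ∀ j, r j ∈ J) : CAlgX.IsQuasiRegular a := by
  classical
  intro n P hP hev e
  rw [hJ] at hev ⊢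
  rcases Nat.eq_zero_or_pos n with rfl | hn
  · rw [← totalDegree_zero_iff_isHomogeneous, totalDegree_eq_zero_iff_eq_C] at hP
    rw [hP, eval_C, zero_add, pow_one] at hev
    rw [hP, coeff_C]
    split_ifs
    · exact hev
    · exact zero_mem _
  by_cases he : e.degree = n
  swap
  · rw [hP.coeff_eq_zero he]; exact zero_mem _
  let ι := ULift.{u} (Fin n)
  have hcard : Fintype.card ι = n := by simp [ι]
  haveI : Nonempty ι := ⟨⟨⟨0, hn⟩⟩⟩
  -- a linear functional on the conormal module
  let ψ : (Fin d → R) →ₗ[R] J.Cotangent :=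
    J.toCotangent.comp (∑ j, (LinearMap.proj j).smulRight (gen hJ j))
  have hψ : Function.Surjective ψ := by
    intro v
    obtain ⟨⟨x, hx⟩, rfl⟩ := J.toCotangent_surjective v
    have hx' : x ∈ Ideal.span (Set.range a) := hJ ▸ hx
    rw [Ideal.span, Submodule.mem_span_range_iff_exists_fun] at hx'
    obtain ⟨c, hc⟩ := hx'
    refine ⟨c, congrArg J.toCotangent (Subtype.ext (Eq.trans ?_ hc))⟩
    simp [gen, Submodule.coe_sum]
  let lin : (Fin d → R) →ₗ[R] MvPolynomial (Fin d) (R ⧸ J) :=
    ∑ j, (LinearMap.proj j).smulRight (X j)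
  have hker : LinearMap.ker ψ ≤ LinearMap.ker lin := by
    intro r hr
    have := hind r (by
      have := (J.toCotangent_eq_zero _).mp hr
      simpa [gen, Submodule.coe_sum] using this)
    simp only [LinearMap.mem_ker, lin, LinearMap.sum_apply, LinearMap.smulRight_apply, LinearMap.proj_apply]
    refine Finset.sum_eq_zero fun j _ => ?_
    rw [← algebraMap_smul (R ⧸ J), Ideal.Quotient.algebraMap_eq,
      Ideal.Quotient.eq_zero_iff_mem.mpr (this j), zero_smul]
  let l : J.Cotangent →ₗ[R] MvPolynomial (Fin d) (R ⧸ J) :=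
    ((LinearMap.ker ψ).liftQ lin hker).comp (ψ.quotKerEquivOfSurjective hψ).symm.toLinearMap
  have hl : ∀ j, l (J.toCotangent (gen hJ j)) = X j := by
    intro j
    have h1 : ψ (Pi.single j 1) = J.toCotangent (gen hJ j) := by
      refine congrArg J.toCotangent ?_
      simp [LinearMap.sum_apply, Pi.single_apply]
    rw [← h1]
    show (LinearMap.ker ψ).liftQ lin hker ((ψ.quotKerEquivOfSurjective hψ).symm (ψ _)) = _
    rw [show (ψ.quotKerEquivOfSurjective hψ).symm (ψ (Pi.single j 1)) = Submodule.Quotient.mk (Pi.single j 1) from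
      (LinearEquiv.symm_apply_eq _).mpr rfl, Submodule.liftQ_apply]
    simp [lin, LinearMap.sum_apply, Pi.single_apply]
  let L : SymmetricPower R ι J.Cotangent →ₗ[R] MvPolynomial (Fin d) (R ⧸ J) :=
    Basic.symLift ((MultilinearMap.mkPiAlgebra R ι (MvPolynomial (Fin d) (R ⧸ J))).compLinearMap
      fun _ => l) fun σ v => Equiv.prod_comp σ fun i => l (v i)
  have hL : ∀ f : ι → Fin d, L (tgen hJ ι f) = monomial (∑ i, Finsupp.single (f i) 1) 1 := by
    intro f
    refine (Basic.symLift_tprod _ _ _).trans ?_
    rw [monomial_sum_one]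
    simp [hl, X]
  -- choose tuples for the monomials
  have hd : 0 < d := by
    by_contra hd
    obtain rfl : d = 0 := by omega
    rw [Subsingleton.elim e 0, map_zero] at he
    omega
  let f₀ : (Fin d →₀ ℕ) → ι → Fin d := fun e =>
    if h : e.degree = Fintype.card ι then (exists_sum_single h).choose else fun _ => ⟨0, hd⟩
  have hg : ∀ e ∈ P.support, ∑ i, Finsupp.single (f₀ e i) 1 = e := by
    intro e he
    have hdeg : e.degree = Fintype.card ι := by
      rw [hcard]
      by_contra hne
      exact mem_support_iff.mp he (hP.coeff_eq_zero hne)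
    simp only [f₀, dif_pos hdeg]
    exact (exists_sum_single hdeg).choose_spec
  have hbij := (symGrBijective_iff J).mp h ι
  have hs : ∑ e ∈ P.support, P.coeff e • tgen hJ ι (f₀ e) = 0 := by
    refine (injective_iff_map_eq_zero _).mp hbij.1 _ ((phi_sum hJ ι _ _ _).mpr ?_)
    rw [Finset.sum_congr rfl (fun e he => by rw [hg e he]), ← P.as_sum, hcard]
    exact hev
  have h2 := congrArg L hs
  rw [map_zero, map_sum] at h2
  have h3 : ∑ e ∈ P.support, monomial e (Ideal.Quotient.mk J (P.coeff e)) = 0 := by
    rw [← h2]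
    refine Finset.sum_congr rfl fun e he => ?_
    rw [map_smul, hL, hg e he, ← algebraMap_smul (R ⧸ J), smul_monomial, smul_eq_mul, mul_one]
    rfl
  rw [← Ideal.Quotient.eq_zero_iff_mem]
  have h4 := congrArg (coeff e) h3
  rw [coeff_sum, coeff_zero] at h4
  simp only [coeff_monomial, Finset.sum_ite_eq'] at h4
  split_ifs at h4 with h5
  · exact h4
  · rw [notMem_support_iff.mp h5, map_zero]

end Gen

end Groth.Agent.SymGr.Quasi
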