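import Mathlib
import Groth.Agent.SymGr.Quasi
import Groth.Agent.RegLoc.Basic
import Groth.Agent.RegDVR.Basic

/-!
# Quasi-regular sequences are regular; regular local rings and the associated graded ring
-/

set_option autoImplicit false
universe u
open MvPolynomial IsLocalRing
open EGA41

noncomputable section

namespace Groth.Agent.SymGr.Regular

theorem isQuasiRegular_of_isWeaklyRegular {A : Type u} [CommRing A] {c : ℕ} {f : Fin c → A}
    (hf : RingTheory.Sequence.IsWeaklyRegular A (List.ofFn f)) : CAlgX.IsQuasiRegular f := by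
  intro n P hP hev d
  have h := RegDVR.QR.of_mem_pow (RegDVR.qr_of_weaklyRegular f hf n) hP hev
  have h1 := congrArg (coeff d) h
  rwa [coeff_map, coeff_zero, Ideal.Quotient.eq_zero_iff_mem] at h1

variable {A : Type u} [CommRing A] {c : ℕ} {f : Fin (c + 1) → A}

local notation "J" => Ideal.span (Set.range f)

theorem eval_mem_pow {n : ℕ} {H : MvPolynomial (Fin (c + 1)) A} (hH : H.IsHomogeneous n)
    (h : ∀ d, H.coeff d ∈ J) : eval f H ∈ J ^ (n + 1) :=
  RegLoc.AdicNoeth.mem_pow_succ_of_coeff_mem f hH h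

/-- `f 0 * x ∈ J^(n+1)` forces `x ∈ J^n`. -/
theorem mem_pow_of_mul_mem (hq : CAlgX.IsQuasiRegular f) :
    ∀ (n : ℕ) {x : A}, f 0 * x ∈ J ^ (n + 1) → x ∈ J ^ n := by
  intro n
  induction n with
  | zero => intro x _; rw [pow_zero, Ideal.one_eq_top]; trivial
  | succ n ih =>
    intro x hx
    obtain ⟨H, hH, rfl⟩ := (Ideal.mem_span_pow_iff_exists_isHomogeneous f _).mp
      (ih (Ideal.pow_le_pow_right (Nat.le_succ _) hx))
    refine eval_mem_pow hH fun d => ?_
    have h := hq (n + 1) (X 0 * H) (by simpa [add_comm] using (isHomogeneous_X A (0 : Fin (c + 1))).mul hH)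
      (by rw [map_mul, eval_X]; exact hx) (Finsupp.single 0 1 + d)
    rwa [coeff_X_mul] at h

theorem isSMulRegular [IsNoetherianRing A] (hq : CAlgX.IsQuasiRegular f) (hJ : J ≤ Ring.jacobson A) :
    IsSMulRegular A (f 0) := by
  refine isSMulRegular_iff_right_eq_zero_of_smul.mpr fun x hx => ?_
  have hmem : x ∈ ⨅ n, J ^ n • (⊤ : Submodule A A) := by
    simp only [Submodule.mem_iInf, smul_eq_mul, Ideal.mul_top]
    exact fun n => mem_pow_of_mul_mem hq n (by rw [← smul_eq_mul, hx]; exact zero_mem _)
  rwa [Ideal.iInf_pow_smul_eq_bot_of_le_jacobson _ (by rwa [← Ideal.jacobson_bot] at hJ), Submodule.mem_bot] at hmem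

theorem isQuasiRegular_quotient (hq : CAlgX.IsQuasiRegular f) :
    CAlgX.IsQuasiRegular (fun i : Fin c => Ideal.Quotient.mk (Ideal.span {f 0}) (f i.succ)) := by
  classical
  set q := Ideal.Quotient.mk (Ideal.span {f 0})
  have hmap : Ideal.span (Set.range fun i : Fin c => q (f i.succ)) = Ideal.map q J := by
    rw [Ideal.map_span, ← Set.range_comp]
    refine le_antisymm (Ideal.span_mono ?_) (Ideal.span_le.mpr ?_)
    · rintro _ ⟨i, rfl⟩; exact ⟨i.succ, rfl⟩
    · rintro _ ⟨i, rfl⟩
      induction i using Fin.cases with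
      | zero =>
        have : q (f 0) = 0 := Ideal.Quotient.eq_zero_iff_mem.mpr (Ideal.mem_span_singleton_self _)
        rw [Function.comp_apply, this]; exact zero_mem _
      | succ i => exact Ideal.subset_span ⟨i, rfl⟩
  intro n P hP hev d
  rw [hmap] at hev ⊢
  -- homogeneous lift
  obtain ⟨P₀, rfl⟩ := map_surjective q Ideal.Quotient.mk_surjective P
  set P₁ := homogeneousComponent n P₀
  have hP₁ : P₁.IsHomogeneous n := homogeneousComponent_isHomogeneous _ _
  have hmapP : map q P₁ = map q P₀ := by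
    refine MvPolynomial.ext _ _ fun e => ?_
    rw [coeff_map, coeff_map, coeff_homogeneousComponent]
    split_ifs with he
    · rfl
    · rw [map_zero, ← coeff_map, hP.coeff_eq_zero he]
  rw [← hmapP] at hev ⊢
  rw [← Ideal.map_pow, show eval (fun i : Fin c => q (f i.succ)) (map q P₁) = q (eval (fun i => f i.succ) P₁) by
    rw [eval_map]; exact (eval₂_comp q _ P₁).symm, Ideal.mem_map_iff_of_surjective _ Ideal.Quotient.mk_surjective] at hev
  obtain ⟨z, hz, hzq⟩ := hev
  obtain ⟨y, hy⟩ := Ideal.mem_span_singleton.mp (Ideal.Quotient.eq.mp hzq.symm)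
  set R₁ := rename Fin.succ P₁
  have hR₁ : R₁.IsHomogeneous n := hP₁.rename_isHomogeneous
  have hevR : eval f R₁ = eval (fun i => f i.succ) P₁ := eval_rename ..
  have hfy : f 0 * y = eval f R₁ - z := by rw [hevR, hy]
  suffices ∀ e, P₁.coeff e ∈ J by
    rw [coeff_map]; exact Ideal.mem_map_of_mem _ (this d)
  intro e
  rw [← coeff_rename_mapDomain Fin.succ (Fin.succ_injective _)]
  show R₁.coeff _ ∈ J
  rcases Nat.eq_zero_or_pos n with rfl | hn
  · refine hq 0 R₁ hR₁ ?_ _
    rw [zero_add, pow_one]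
    have : eval f R₁ = f 0 * y + z := by rw [hfy]; ring
    rw [this]
    exact add_mem (Ideal.mul_mem_right _ _ (Ideal.subset_span ⟨0, rfl⟩)) (by simpa using hz)
  obtain ⟨m, rfl⟩ : ∃ m, n = m + 1 := ⟨n - 1, by omega⟩
  have hym : y ∈ J ^ m := mem_pow_of_mul_mem hq m (by
    rw [hfy]
    exact sub_mem (RegLoc.AdicNoeth.mem_pow_of_isHomogeneous f hR₁) (Ideal.pow_le_pow_right (Nat.le_succ _) hz))
  obtain ⟨H, hH, rfl⟩ := (Ideal.mem_span_pow_iff_exists_isHomogeneous f _).mp hym
  have hev0 : eval f (R₁ - X 0 * H) ∈ J ^ (m + 1 + 1) := by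
    rw [map_sub, map_mul, eval_X, hfy, sub_sub_cancel]
    exact hz
  have h := hq (m + 1) _ (hR₁.sub (by simpa [add_comm] using (isHomogeneous_X A (0 : Fin (c + 1))).mul hH))
    hev0 (Finsupp.mapDomain Fin.succ e)
  rwa [coeff_sub, coeff_X_mul', if_neg, sub_zero] at h
  rw [Finsupp.mem_support_iff, not_not]
  exact Finsupp.mapDomain_of_notMem_range _ _ (fun ⟨i, hi⟩ => Fin.succ_ne_zero i hi)

theorem jacobson_map {A : Type u} [CommRing A] (I : Ideal A) {x : A} (hx : x ∈ Ring.jacobson A) :
    Ideal.Quotient.mk I x ∈ Ring.jacobson (A ⧸ I) := by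
  rw [← Ideal.jacobson_bot, Ideal.mem_jacobson_bot] at hx ⊢
  intro y
  obtain ⟨y, rfl⟩ := Ideal.Quotient.mk_surjective y
  simpa using (hx y).map (Ideal.Quotient.mk I)

theorem isWeaklyRegular_of_isQuasiRegular :
    ∀ (c : ℕ) {A : Type u} [CommRing A] [IsNoetherianRing A] (f : Fin c → A),
      (∀ i, f i ∈ Ring.jacobson A) → CAlgX.IsQuasiRegular f →
        RingTheory.Sequence.IsWeaklyRegular A (List.ofFn f) := by
  intro c
  induction c with
  | zero => intro A _ _ f _ _; simp
  | succ c ih =>
    intro A _ _ f hf hq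
    rw [List.ofFn_succ, RingTheory.Sequence.isWeaklyRegular_cons_iff']
    refine ⟨isSMulRegular hq (Ideal.span_le.mpr (by rintro _ ⟨i, rfl⟩; exact hf i)), ?_⟩
    have h := ih (fun i : Fin c => Ideal.Quotient.mk (Ideal.span {f 0}) (f i.succ))
      (fun i => jacobson_map _ (hf _)) (isQuasiRegular_quotient hq)
    rw [List.map_ofFn]
    let e : (A ⧸ Ideal.span {f 0}) ≃ₗ[A] QuotSMulTop (f 0) A :=
      Submodule.quotEquivOfEq _ _ (by rw [← Submodule.ideal_span_singleton_smul]; exact (Ideal.mul_top _).symm)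
    exact (LinearEquiv.isWeaklyRegular_congr
      (LinearEquiv.extendScalarsOfSurjective Ideal.Quotient.mk_surjective e) _).mp h

/-- Regular Noetherian local rings are those with `Sym^n(m/m^2) → m^n/m^(n+1)` bijective. -/
theorem isRegularLocalRing_iff_symGr {A : Type u} [CommRing A] [IsLocalRing A] [IsNoetherianRing A] :
    IsRegularLocalRing A ↔ PP16.SymGrBijective A (maximalIdeal A) := by
  set d := (maximalIdeal A).spanFinrank
  have hfg : (maximalIdeal A).FG := IsNoetherian.noetherian _
  obtain ⟨a, ha⟩ : ∃ a : Fin d → A, Ideal.span (Set.range a) = maximalIdeal A := by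
    have hfin : (maximalIdeal A).generators.Finite := Submodule.FG.finite_generators hfg
    have hcard : Nat.card ↥(maximalIdeal A).generators = d := by
      rw [Nat.card_coe_set_eq, Submodule.FG.generators_ncard hfg]
    haveI : Finite ↥(maximalIdeal A).generators := hfin
    let e := (Finite.equivFinOfCardEq hcard).symm
    refine ⟨fun i => (e i : A), ?_⟩
    rw [show (fun i => (e i : A)) = Subtype.val ∘ e from rfl, Set.range_comp, e.surjective.range_eq,
      Set.image_univ, Subtype.range_coe, ← Ideal.submodule_span_eq, Submodule.span_generators]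
  constructor
  · intro h
    obtain ⟨n, hn, -⟩ := RegLoc.exists_natCast_eq_ringKrullDim A
    obtain rfl : d = n := RegLoc.spanFinrank_eq_dim hn
    exact Quasi.symGrBijective_of_isQuasiRegular ha
      (isQuasiRegular_of_isWeaklyRegular (RegLoc.isRegular_ofFn hn a ha).toIsWeaklyRegular)
  · intro h
    have hind : ∀ r : Fin d → A, ∑ j, r j * a j ∈ maximalIdeal A ^ 2 → ∀ j, r j ∈ maximalIdeal A := by
      intro r hr j
      by_contra hj
      have hu : IsUnit (r j) := IsLocalRing.notMem_maximalIdeal.mp hj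
      set I := Ideal.span (a '' {j}ᶜ)
      have hI : I ≤ maximalIdeal A := ha ▸ Ideal.span_mono (Set.image_subset_range _ _)
      have hIm : maximalIdeal A ≤ I ⊔ maximalIdeal A ^ 2 := by
        conv_lhs => rw [← ha]
        rw [Ideal.span_le]
        rintro _ ⟨i, rfl⟩
        rcases eq_or_ne i j with rfl | hi
        · rw [← Finset.add_sum_erase _ _ (Finset.mem_univ i)] at hr
          have h1 : r i * a i ∈ I ⊔ maximalIdeal A ^ 2 := by
            have h2 : ∑ k ∈ Finset.univ.erase i, r k * a k ∈ I := Ideal.sum_mem _ fun k hk =>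
              Ideal.mul_mem_left _ _ (Ideal.subset_span ⟨k, Finset.ne_of_mem_erase hk, rfl⟩)
            have := sub_mem (Submodule.mem_sup_right hr : _ ∈ I ⊔ maximalIdeal A ^ 2)
              (Submodule.mem_sup_left h2)
            rwa [add_sub_cancel_right] at this
          exact (Ideal.unit_mul_mem_iff_mem _ hu).mp h1
        · exact Submodule.mem_sup_left (Ideal.subset_span ⟨i, hi, rfl⟩)
      have := RegLoc.eq_maximalIdeal_of_le_sup_sq hI hIm
      have hle := (Submodule.spanFinrank_span_le_ncard_of_finite (R := A) ((Set.toFinite ({j}ᶜ : Set (Fin d))).image a)).trans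
        (Set.ncard_image_le (Set.toFinite ({j}ᶜ : Set (Fin d))))
      rw [Ideal.submodule_span_eq, show Ideal.span (a '' {j}ᶜ) = maximalIdeal A from this, Set.ncard_compl,
        Set.ncard_singleton, Nat.card_fin] at hle
      have := j.pos
      omega
    have hmem : ∀ i, a i ∈ maximalIdeal A := fun i => ha ▸ Ideal.subset_span (Set.mem_range_self i)
    have hreg := isWeaklyRegular_of_isQuasiRegular d a
      (fun i => by rw [IsLocalRing.ringJacobson_eq_maximalIdeal]; exact hmem i)
      (Quasi.isQuasiRegular_of_symGrBijective ha h hind)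
    rw [← IsLocalRing.isRegular_iff_isWeaklyRegular_of_subset_maximalIdeal (by simpa using hmem)] at hreg
    have hdim := ringKrullDim_add_length_eq_ringKrullDim_of_isRegular _ hreg
    have hof : Ideal.ofList (List.ofFn a) = maximalIdeal A := by
      rw [← ha, Ideal.ofList]; congr 1; ext; simp [List.mem_ofFn]
    rw [ringKrullDim_eq_of_ringEquiv (Ideal.quotientEquivAlgOfEq A hof).toRingEquiv,
      ringKrullDim_eq_zero_of_isField ((Ideal.Quotient.maximal_ideal_iff_isField_quotient _).mp (maximalIdeal.isMaximal A)), zero_add, List.length_ofFn] at hdim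
    exact IsRegularLocalRing.of_spanFinrank_maximalIdeal_le A hdim.le

end Groth.Agent.SymGr.Regular
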